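import Mathlib

/-!
Comparing Sylow subgroups of two groups through a common multiplication table by generators.
-/

set_option autoImplicit false

namespace Cfsg.Lib.SylowTables

variable {G H : Type*} [Group G] [Group H] {N k : ℕ}

/-- Two families carrying the same table multiply in the same way. -/
theorem table_mul (a : Fin N → G) (b : Fin N → H) (e : Fin N) (gA : Fin k → G) (gB : Fin k → H)
    (next : Fin k → Fin N → Fin N) (ha1 : a e = 1) (hb1 : b e = 1)
    (hA : ∀ j i, a i * gA j = a (next j i)) (hB : ∀ j i, b i * gB j = b (next j i))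
    (hpar : ∀ i, i ≠ e → ∃ j, ∃ i' : Fin N, (i' : ℕ) < i ∧ next j i' = i) (i l : Fin N) :
    ∃ m, a i * a l = a m ∧ b i * b l = b m := by
  obtain ⟨n, hn⟩ : ∃ n, (l : ℕ) = n := ⟨_, rfl⟩
  induction n using Nat.strong_induction_on generalizing l with
  | _ n ih =>
    by_cases hl : l = e
    · exact ⟨i, by rw [hl, ha1, mul_one], by rw [hl, hb1, mul_one]⟩
    · obtain ⟨j, l', hlt, rfl⟩ := hpar l hl
      obtain ⟨m, h1, h2⟩ := ih l' (hn ▸ hlt) l' rfl
      exact ⟨next j m, by rw [← hA, ← mul_assoc, h1, hA], by rw [← hB, ← mul_assoc, h2, hB]⟩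

/-- A family closed under multiplication and containing `1` spans a subgroup of a finite group. -/
theorem exists_subgroup [Finite G] (a : Fin N → G) (e : Fin N) (h1 : a e = 1)
    (hm : ∀ i l, ∃ m, a i * a l = a m) :
    ∃ A : Subgroup G, (A : Set G) = Set.range a := by
  let M : Submonoid G :=
    { carrier := Set.range a
      mul_mem' := by
        rintro _ _ ⟨i, rfl⟩ ⟨l, rfl⟩
        obtain ⟨m, hm⟩ := hm i l
        exact ⟨m, hm.symm⟩
      one_mem' := ⟨e, h1⟩ }
  refine ⟨{ M with inv_mem' := fun {x} hx => ?_ }, rfl⟩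
  obtain ⟨n, hn0, hn⟩ : ∃ n, 0 < n ∧ x ^ n = 1 := ⟨_, orderOf_pos x, pow_orderOf_eq_one x⟩
  have : x⁻¹ = x ^ (n - 1) := by
    refine inv_eq_of_mul_eq_one_right ?_
    rw [← pow_succ', Nat.sub_add_cancel hn0, hn]
  rw [this]
  exact pow_mem (show x ∈ M from hx) _

/-- Sylow `p`-subgroups described by one table are isomorphic. -/
theorem sylow_iso [Finite G] [Finite H] {p r : ℕ} [Fact p.Prime] (a : Fin N → G) (b : Fin N → H) (e : Fin N)
    (gA : Fin k → G) (gB : Fin k → H) (next : Fin k → Fin N → Fin N) (ha1 : a e = 1) (hb1 : b e = 1)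
    (hA : ∀ j i, a i * gA j = a (next j i)) (hB : ∀ j i, b i * gB j = b (next j i))
    (hpar : ∀ i, i ≠ e → ∃ j, ∃ i' : Fin N, (i' : ℕ) < i ∧ next j i' = i)
    (hia : Function.Injective a) (hib : Function.Injective b) (hN : N = p ^ r)
    (hG : ¬ p ^ (r + 1) ∣ Nat.card G) (hH : ¬ p ^ (r + 1) ∣ Nat.card H) (P : Sylow p G) (Q : Sylow p H) :
    Nonempty (↥(P : Subgroup G) ≃* ↥(Q : Subgroup H)) := by
  have key := table_mul a b e gA gB next ha1 hb1 hA hB hpar
  obtain ⟨A, hAs⟩ := exists_subgroup a e ha1 fun i l => (key i l).imp fun m h => h.1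
  obtain ⟨B, hBs⟩ := exists_subgroup b e hb1 fun i l => (key i l).imp fun m h => h.2
  have memA : ∀ x, x ∈ A ↔ ∃ i, a i = x := fun x => by rw [← SetLike.mem_coe, hAs]; exact Iff.rfl
  have memB : ∀ x, x ∈ B ↔ ∃ i, b i = x := fun x => by rw [← SetLike.mem_coe, hBs]; exact Iff.rfl
  let fA : Fin N → ↥A := fun i => ⟨a i, (memA _).2 ⟨i, rfl⟩⟩
  let fB : Fin N → ↥B := fun i => ⟨b i, (memB _).2 ⟨i, rfl⟩⟩
  have bA : Function.Bijective fA := ⟨fun i l h => hia (congrArg Subtype.val h),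
    fun x => ((memA _).1 x.2).imp fun i h => Subtype.ext h⟩
  have bB : Function.Bijective fB := ⟨fun i l h => hib (congrArg Subtype.val h),
    fun x => ((memB _).1 x.2).imp fun i h => Subtype.ext h⟩
  let eAB : ↥A ≃ ↥B := (Equiv.ofBijective fA bA).symm.trans (Equiv.ofBijective fB bB)
  have heAB : ∀ i, eAB (fA i) = fB i := fun i => by
    simp only [eAB, Equiv.trans_apply, Equiv.ofBijective_symm_apply_apply]
    rfl
  let e' : ↥A ≃* ↥B := MulEquiv.mk' eAB fun x y => by
    obtain ⟨i, rfl⟩ := bA.2 x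
    obtain ⟨l, rfl⟩ := bA.2 y
    obtain ⟨m, h1, h2⟩ := key i l
    rw [show fA i * fA l = fA m from Subtype.ext h1, heAB, heAB, heAB]
    exact Subtype.ext h2.symm
  have cA : Nat.card ↥A = p ^ r := by
    rw [← Nat.card_eq_of_bijective fA bA, Nat.card_fin, hN]
  have cB : Nat.card ↥B = p ^ r := by
    rw [← Nat.card_eq_of_bijective fB bB, Nat.card_fin, hN]
  have hA' : ¬ p ∣ A.index := fun hd => hG (by
    rw [← A.card_mul_index, cA, pow_succ]; exact mul_dvd_mul_left _ hd)
  have hB' : ¬ p ∣ B.index := fun hd => hH (by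
    rw [← B.card_mul_index, cB, pow_succ]; exact mul_dvd_mul_left _ hd)
  exact ⟨((P.equiv ((IsPGroup.of_card cA).toSylow hA')).trans e').trans
    (((IsPGroup.of_card cB).toSylow hB').equiv Q)⟩

end Cfsg.Lib.SylowTables
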