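import Mathlib
import Cfsg.Prelude.Def_Classical
import Cfsg.Agent.Lib.SylowTables.Data

/-!
Kernel-checked facts about the tables of Sylow two-subgroups.
-/

set_option autoImplicit false

namespace Cfsg.Lib.SylowTables

/-- Entry of a packed table. -/
def dig (w T i : ℕ) : ℕ := T / 2 ^ (w * i) % 2 ^ w

/-- Index of a symplectic coordinate. -/
def spIdx : Fin 2 ⊕ Fin 2 → ℕ := Sum.elim (fun i => i) (fun i => 2 + i)

/-- A symplectic matrix from its code. -/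
def spM (i : Fin 64) : Matrix (Fin 2 ⊕ Fin 2) (Fin 2 ⊕ Fin 2) (ZMod 3) :=
  Matrix.of fun r c => ((dig 26 spMat i / 3 ^ (4 * spIdx r + spIdx c) % 3 : ℕ) : ZMod 3)

/-- Index of an orthogonal coordinate. -/
def orIdx : (Fin 2 ⊕ Fin 2) ⊕ Fin 2 → ℕ := Sum.elim spIdx (fun i => 4 + i)

/-- An orthogonal matrix from its code. -/
def orM (i : Fin 128) : Matrix ((Fin 2 ⊕ Fin 2) ⊕ Fin 2) ((Fin 2 ⊕ Fin 2) ⊕ Fin 2) (ZMod 2) :=
  Matrix.of fun r c => ((dig 36 orMat i / 2 ^ (6 * orIdx c + orIdx r) % 2 : ℕ) : ZMod 2)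

/-- Images of a point under the permutations of `A₈`. -/
def a8F (i : Fin 64) (x : Fin 8) : Fin 8 := ⟨dig 24 a8Perm i / 8 ^ (x : ℕ) % 8, Nat.mod_lt _ (by norm_num)⟩

/-- Preimages. -/
def a8G (i : Fin 64) (x : Fin 8) : Fin 8 := ⟨dig 24 a8PermInv i / 8 ^ (x : ℕ) % 8, Nat.mod_lt _ (by norm_num)⟩

/-- Images of a point under the permutations of `S₈`. -/
def s8F (i : Fin 128) (x : Fin 8) : Fin 8 := ⟨dig 24 s8Perm i / 8 ^ (x : ℕ) % 8, Nat.mod_lt _ (by norm_num)⟩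

/-- Preimages. -/
def s8G (i : Fin 128) (x : Fin 8) : Fin 8 := ⟨dig 24 s8PermInv i / 8 ^ (x : ℕ) % 8, Nat.mod_lt _ (by norm_num)⟩

/-- Next index. -/
def a8N (j : Fin 3) (i : Fin 64) : Fin 64 := ⟨(dig 8 a8Next (64 * j + i)) % 64, Nat.mod_lt _ (by norm_num)⟩

/-- Next index. -/
def s8N (j : Fin 3) (i : Fin 128) : Fin 128 := ⟨(dig 8 s8Next (128 * j + i)) % 128, Nat.mod_lt _ (by norm_num)⟩

/-- Generator index. -/
def a8J (j : Fin 3) : Fin 64 := ⟨dig 8 a8Gen j % 64, Nat.mod_lt _ (by norm_num)⟩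

/-- Generator index. -/
def s8J (j : Fin 3) : Fin 128 := ⟨dig 8 s8Gen j % 128, Nat.mod_lt _ (by norm_num)⟩

/-- Inverse index. -/
def orI (i : Fin 128) : Fin 128 := ⟨dig 8 orInv i % 128, Nat.mod_lt _ (by norm_num)⟩

set_option maxRecDepth 100000

theorem a8_inv : ∀ i x, a8G i (a8F i x) = x ∧ a8F i (a8G i x) = x := by decide +kernel

theorem s8_inv : ∀ i x, s8G i (s8F i x) = x ∧ s8F i (s8G i x) = x := by decide +kernel

theorem a8_next : ∀ j i x, a8F i (a8F (a8J j) x) = a8F (a8N j i) x := by decide +kernel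

theorem s8_next : ∀ j i x, s8F i (s8F (s8J j) x) = s8F (s8N j i) x := by decide +kernel

theorem a8_one : ∀ x, a8F 0 x = x := by decide +kernel

theorem s8_one : ∀ x, s8F 0 x = x := by decide +kernel

theorem a8_par : ∀ i : Fin 64, i ≠ 0 → (dig 8 a8Par i < i ∧
    a8N ⟨dig 2 a8ParG i % 3, Nat.mod_lt _ (by norm_num)⟩ ⟨dig 8 a8Par i % 64, Nat.mod_lt _ (by norm_num)⟩ = i) := by
  decide +kernel

theorem s8_par : ∀ i : Fin 128, i ≠ 0 → (dig 8 s8Par i < i ∧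
    s8N ⟨dig 2 s8ParG i % 3, Nat.mod_lt _ (by norm_num)⟩ ⟨dig 8 s8Par i % 128, Nat.mod_lt _ (by norm_num)⟩ = i) := by
  decide +kernel

theorem a8_inj : ∀ i l : Fin 64, dig 24 a8Perm i = dig 24 a8Perm l → i = l := by decide +kernel

theorem s8_inj : ∀ i l : Fin 128, dig 24 s8Perm i = dig 24 s8Perm l → i = l := by decide +kernel

/-- Code of a binary matrix. -/
def orEnc (M : Matrix ((Fin 2 ⊕ Fin 2) ⊕ Fin 2) ((Fin 2 ⊕ Fin 2) ⊕ Fin 2) (ZMod 2)) : ℕ :=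
  ∑ r, ∑ c, (M r c).val * 2 ^ (6 * orIdx c + orIdx r)

theorem or_enc : ∀ i, orEnc (orM i) = dig 36 orMat i := by decide +kernel

theorem or_dig_inj : ∀ i l : Fin 128, dig 36 orMat i = dig 36 orMat l → i = l := by decide +kernel

theorem or_code_inj (i l : Fin 128) (h : orM i = orM l) : i = l :=
  or_dig_inj i l (by rw [← or_enc, ← or_enc, h])

/-- Code of a ternary matrix. -/
def spEnc (M : Matrix (Fin 2 ⊕ Fin 2) (Fin 2 ⊕ Fin 2) (ZMod 3)) : ℕ :=
  ∑ r, ∑ c, (M r c).val * 3 ^ (4 * spIdx r + spIdx c)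

theorem sp_enc : ∀ i, spEnc (spM i) = dig 26 spMat i := by decide +kernel

theorem sp_dig_inj : ∀ i l : Fin 64, dig 26 spMat i = dig 26 spMat l ∨ spEnc (-spM i) = dig 26 spMat l → i = l := by
  decide +kernel

theorem sp_code_inj (i l : Fin 64) (h : spM i = spM l ∨ spM i = -spM l) : i = l :=
  sp_dig_inj i l (h.imp (fun e => by rw [← sp_enc, ← sp_enc, e])
    (fun e => by rw [← sp_enc, e, neg_neg]))

theorem sp_one : spM 0 = 1 ∨ spM 0 = -1 := by decide +kernel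

theorem or_one : orM 0 = 1 := by decide +kernel

theorem sp_next : ∀ j i, spM i * spM (a8J j) = spM (a8N j i) ∨ spM i * spM (a8J j) = -spM (a8N j i) := by
  decide +kernel

theorem or_next : ∀ j i, orM i * orM (s8J j) = orM (s8N j i) := by decide +kernel

theorem or_inv : ∀ i, orM i * orM (orI i) = 1 := by decide +kernel

theorem sp_gen : ∀ j, spM (a8J j) * Matrix.J (Fin 2) (ZMod 3) * (spM (a8J j)).transpose = Matrix.J (Fin 2) (ZMod 3) := by
  decide +kernel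

theorem or_gen : ∀ j, ∀ v : (Fin 2 ⊕ Fin 2) ⊕ Fin 2 → ZMod 2,
    Cfsg.quadFormMinus 2 (ZMod 2) 1 1 ((orM (s8J j)).mulVec v) = Cfsg.quadFormMinus 2 (ZMod 2) 1 1 v := by
  decide +kernel

theorem sign_gen : ∀ j, Equiv.Perm.sign (⟨a8F (a8J j), a8G (a8J j), fun x => (a8_inv _ x).1,
    fun x => (a8_inv _ x).2⟩ : Equiv.Perm (Fin 8)) = 1 := by
  decide +kernel

end Cfsg.Lib.SylowTables
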